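/-
Abelian categories with a faithful exact left adjoint to a category with exact filtered colimits.
-/
import Mathlib.CategoryTheory.Abelian.GrothendieckCategory.Basic
import Mathlib.CategoryTheory.Abelian.GrothendieckAxioms.Colim
import Mathlib.CategoryTheory.Limits.Constructions.EpiMono
import Mathlib.CategoryTheory.Limits.Preserves.Filtered
import Mathlib.CategoryTheory.Functor.ReflectsIso.Balanced
import Groth.Agent.ARLib.Sub

open CategoryTheory Limits

universe w u₁ u₂

namespace Groth.Agent.FaithAdj

attribute [local instance] IsFiltered.isConnected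

section Gen

variable {B : Type u₂} [Category.{w} B] [Abelian B] [HasColimitsOfSize.{w, w} B]
  {ι : Type w} (s : ι → B) (X : B)

/-- The index of finite families of maps from the generators. -/
abbrev Idx := Finset (Σ i, s i ⟶ X)

/-- The map from the finite sum. -/
noncomputable def genMap (S : Idx s X) : (∐ fun p : S => s p.1.1) ⟶ X :=
  Sigma.desc fun p => p.1.2

/-- The subobject generated by finitely many maps. -/
noncomputable def gen (S : Idx s X) : Subobject X := imageSubobject (genMap s X S)

theorem gen_mono : Monotone (gen s X) := by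
  intro S T h
  refine imageSubobject_le (genMap s X S)
    (Sigma.desc (fun p : S => Sigma.ι (fun q : T => s q.1.1) ⟨p.1, h p.2⟩) ≫
      factorThruImageSubobject (genMap s X T)) ?_
  ext p
  simp only [gen, genMap, Category.assoc, Sigma.ι_desc_assoc]
  erw [imageSubobject_arrow_comp, Sigma.ι_desc, Sigma.ι_desc]

/-- The filtered diagram of finitely generated subobjects. -/
noncomputable def genCocone : Cocone ((gen_mono s X).functor ⋙ Subobject.underlying) where
  pt := X
  ι := { app := fun S => (gen s X S).arrow
         naturality := fun S T h => (Subobject.underlying_arrow _).trans (Category.comp_id _).symm }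

theorem factors_gen (p : Σ i, s i ⟶ X) : (gen s X {p}).Factors p.2 := by
  have h := imageSubobject_factors_comp_self (f := genMap s X {p})
    (Sigma.ι (fun q : ({p} : Idx s X) => s q.1.1) ⟨p, Finset.mem_singleton_self p⟩)
  unfold genMap at h
  erw [Sigma.ι_desc] at h
  exact h

theorem isColimit_of_mono {J : Type w} [Category.{w} J] [IsFiltered J] [AB5OfSize.{w, w} B]
    {D : J ⥤ B} (c : Cocone D) [∀ j, Mono (c.ι.app j)]
    (he : ∀ ⦃Z : B⦄ (g g' : c.pt ⟶ Z), (∀ j, c.ι.app j ≫ g = c.ι.app j ≫ g') → g = g') :
    Nonempty (IsColimit c) := by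
  have : HasExactColimitsOfShape J B := AB5OfSize.ofShape _
  have : Mono c.ι := NatTrans.mono_of_mono_app _
  let d : Cocone ((Functor.const J).obj c.pt) := { pt := c.pt, ι := 𝟙 _ }
  have : IsIso (colimit.desc _ d) :=
    ((colimit.isColimit _).coconePointUniqueUpToIso (isColimitConstCocone J c.pt)).isIso_hom
  have h : colimit.desc _ c = colimMap c.ι ≫ colimit.desc _ d := by
    refine colimit.hom_ext fun j => ?_
    simp [d]
  have : Mono (colimMap c.ι) := colim.map_mono c.ι
  have : Mono (colimit.desc _ c) := by
    rw [h]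
    exact mono_comp _ _
  have : Epi (colimit.desc _ c) := ⟨fun g g' hg => he g g' fun j => by
    rw [← colimit.ι_desc c j, Category.assoc, Category.assoc, hg]⟩
  have : IsIso (colimit.desc _ c) := isIso_of_mono_of_epi _
  have : IsIso ((colimit.isColimit _).desc c) := this
  exact ⟨IsColimit.ofPointIso (colimit.isColimit _)⟩

seal gen in
theorem isColimit_genCocone [AB5OfSize.{w, w} B]
    (hsep : ∀ ⦃X Y : B⦄ (f g : X ⟶ Y), (∀ (i : ι) (h : s i ⟶ X), h ≫ f = h ≫ g) → f = g) :
    Nonempty (IsColimit (genCocone s X)) := by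
  have : ∀ S, Mono ((genCocone s X).ι.app S) := fun S =>
    inferInstanceAs (Mono (gen s X S).arrow)
  refine isColimit_of_mono _ fun Z g g' hg => hsep _ _ fun i h => ?_
  have hf : (gen s X {⟨i, h⟩}).Factors h := factors_gen s X ⟨i, h⟩
  obtain ⟨k, hk⟩ : ∃ k, k ≫ (gen s X {⟨i, h⟩}).arrow = h :=
    ⟨Subobject.factorThru _ h hf, Subobject.factorThru_arrow _ h hf⟩
  have h2 := congrArg (fun t => k ≫ t) (hg {⟨i, h⟩})
  have e : ∀ t : X ⟶ Z, h ≫ t = k ≫ (gen s X {⟨i, h⟩}).arrow ≫ t := fun t => by
    exact (congrArg (· ≫ t) hk).symm.trans (Category.assoc _ _ _)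
  exact (e g).trans (h2.trans (e g').symm)

theorem isNoetherian_gen (hsN : ∀ i, IsNoetherianObject (s i)) (S : Idx s X) :
    IsNoetherianObject (gen s X S : B) := by
  classical
  let G : Subobject X := S.sup fun p => imageSubobject p.2
  have hle : gen s X S ≤ G := by
    have hp : ∀ p : S, G.Factors p.1.2 := fun p =>
      Subobject.factors_of_le _ (Finset.le_sup (f := fun p : Σ i, s i ⟶ X => imageSubobject p.2) p.2)
        ((Subobject.factors_iff _ _).2 ⟨factorThruImageSubobject _, imageSubobject_arrow_comp _⟩)
    refine imageSubobject_le _ (Sigma.desc fun p : S => G.factorThru _ (hp p)) ?_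
    ext p
    simp [genMap]
  have hG : IsNoetherianObject (G : B) := by
    refine Finset.sup_induction (p := fun U : Subobject X => IsNoetherianObject (U : B)) ?_ ?_ ?_
    · exact isNoetherianObject_of_isZero ((isZero_zero B).of_iso Subobject.botCoeIsoZero)
    · intro U (_ : IsNoetherianObject (U : B)) V (_ : IsNoetherianObject (V : B))
      let W := imageSubobject (biprod.desc U.arrow V.arrow)
      have h : U ⊔ V ≤ W := sup_le
        (Subobject.le_of_comm (biprod.inl ≫ factorThruImageSubobject _) (by simp [W]))
        (Subobject.le_of_comm (biprod.inr ≫ factorThruImageSubobject _) (by simp [W]))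
      have := ARLib.isNoetherianObject_biprod (X := (U : B)) (Y := (V : B))
      have : IsNoetherianObject (W : B) :=
        ARLib.isNoetherianObject_of_epi (factorThruImageSubobject (biprod.desc U.arrow V.arrow))
      exact isNoetherianObject_of_mono (Subobject.ofLE _ _ h)
    · intro p _
      have := hsN p.1
      exact ARLib.isNoetherianObject_of_epi (factorThruImageSubobject p.2)
  exact isNoetherianObject_of_mono (Subobject.ofLE _ _ hle)

end Gen

section Adj

variable {A : Type u₁} [Category.{w} A] [Abelian A]
  {B : Type u₂} [Category.{w} B] [Abelian B]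
  (F : A ⥤ B)

omit [Abelian B] in
theorem reflectsIso [F.Faithful] : F.ReflectsIsomorphisms := inferInstance

/-- The map on subobjects. -/
noncomputable def subMap [PreservesFiniteLimits F] (a : A) (S : Subobject a) :
    Subobject (F.obj a) :=
  Subobject.mk (F.map S.arrow)

theorem subMap_le_iff [F.Faithful] [PreservesFiniteLimits F] [PreservesFiniteColimits F] (a : A)
    (S T : Subobject a) : subMap F a S ≤ subMap F a T ↔ S ≤ T := by
  constructor
  · intro h
    refine ((ARLib.mem_iff_comp_cokernel T S.arrow).2 (F.map_injective ?_)) |> fun hf =>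
      Subobject.le_of_comm _ (Subobject.factorThru_arrow _ _ hf)
    rw [F.map_comp, F.map_zero, ← Subobject.ofMkLEMk_comp h, Category.assoc, ← F.map_comp,
      cokernel.condition, F.map_zero, comp_zero]
  · intro h
    exact Subobject.mk_le_mk_of_comm (F.map (Subobject.ofLE _ _ h))
      (by rw [← F.map_comp, Subobject.ofLE_arrow])

theorem subMap_injective [F.Faithful] [PreservesFiniteLimits F] [PreservesFiniteColimits F]
    (a : A) : Function.Injective (subMap F a) := fun S T h =>
  le_antisymm ((subMap_le_iff F a S T).1 h.le) ((subMap_le_iff F a T S).1 h.ge)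

theorem wellPowered [F.Faithful] [PreservesFiniteLimits F] [PreservesFiniteColimits F]
    [WellPowered.{w} B] : WellPowered.{w} A where
  subobject_small a := small_of_injective (subMap_injective F a)

theorem isNoetherian_of_obj [F.Faithful] [PreservesFiniteLimits F] [PreservesFiniteColimits F]
    (a : A) [IsNoetherianObject (F.obj a)] : IsNoetherianObject a := by
  rw [isNoetherianObject_iff_not_strictMono]
  intro f hf
  refine not_strictMono_of_isNoetherianObject (fun n => subMap F a (f n)) fun m n h => ?_
  exact lt_of_le_of_ne ((subMap_le_iff F a _ _).2 (hf h).le)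
    fun e => (hf h).ne (subMap_injective F a e)

theorem ab5 [HasColimitsOfSize.{w, w} A] [HasColimitsOfSize.{w, w} B] [AB5OfSize.{w, w} B]
    [F.Faithful] [PreservesFiniteLimits F] {G : B ⥤ A} (adj : F ⊣ G) : AB5OfSize.{w, w} A := by
  refine ⟨fun J _ _ => ?_⟩
  have : HasExactColimitsOfShape J B := AB5OfSize.ofShape _
  have : PreservesColimitsOfSize.{w, w} F := adj.leftAdjoint_preservesColimits
  have := reflectsIso F
  exact HasExactColimitsOfShape.domain_of_functor J F

variable {F}
variable [HasColimitsOfSize.{w, w} A] [HasColimitsOfSize.{w, w} B] [AB5OfSize.{w, w} B]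
  [F.Faithful] [PreservesFiniteLimits F]
  {G : B ⥤ A} (adj : F ⊣ G) [PreservesFilteredColimitsOfSize.{w, w} G]
  {ι : Type w} (s : ι → B)
  (hsep : ∀ ⦃X Y : B⦄ (f g : X ⟶ Y), (∀ (i : ι) (h : s i ⟶ X), h ≫ f = h ≫ g) → f = g)

theorem transpose {A : Type u₁} [Category.{w} A] {B : Type u₂} [Category.{w} B] {F : A ⥤ B}
    {G : B ⥤ A} (adj : F ⊣ G) {x a : A} {D : B} (u : x ⟶ a) (v : x ⟶ G.obj D) (i : D ⟶ F.obj a)
    (h : u ≫ adj.unit.app a = v ≫ G.map i) : (F.map v ≫ adj.counit.app D) ≫ i = F.map u := by
  have h := congrArg (fun t => F.map t ≫ adj.counit.app (F.obj a)) h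
  simp at h
  rw [h, Category.assoc]

include adj hsep in
/-- A map out of `a` vanishes if it does on everything mapping into a finitely generated part. -/
theorem eq_zero_of_gen {a y : A} (f : a ⟶ y)
    (hf : ∀ (S : Idx s (F.obj a)) (x : A) (u : x ⟶ a),
      (gen s (F.obj a) S).Factors (F.map u) → u ≫ f = 0) : f = 0 := by
  let J := Idx s (F.obj a)
  obtain ⟨hc⟩ := isColimit_genCocone s (F.obj a) hsep
  let c := genCocone s (F.obj a)
  have : PreservesColimitsOfShape J G :=
    PreservesFilteredColimitsOfSize.preserves_filtered_colimits J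
  have hGc := isColimitOfPreserves G hc
  have := ab5 F adj
  have : HasExactColimitsOfShape J A := AB5OfSize.ofShape _
  let η : (Functor.const J).obj a ⟶ (Functor.const J).obj (G.obj (F.obj a)) :=
    (Functor.const J).map (adj.unit.app a)
  let κ : ((gen_mono s (F.obj a)).functor ⋙ Subobject.underlying) ⋙ G ⟶
      (Functor.const J).obj (G.obj (F.obj a)) := (G.mapCocone c).ι
  have hκ : IsIso (colim.map κ) := by
    have : IsIso (colimit.desc _ (G.mapCocone c)) :=
      ((colimit.isColimit _).coconePointUniqueUpToIso hGc).isIso_hom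
    let d : Cocone ((Functor.const J).obj (G.obj (F.obj a))) :=
      { pt := G.obj (F.obj a), ι := 𝟙 _ }
    have : IsIso (colimit.desc _ d) :=
      ((colimit.isColimit _).coconePointUniqueUpToIso (isColimitConstCocone J _)).isIso_hom
    have : IsIso (colim.map κ ≫ colimit.desc _ d) := by
      have h : colim.map κ ≫ colimit.desc _ d = colimit.desc _ (G.mapCocone c) := by
        refine colimit.hom_ext fun j => ?_
        erw [ι_colimMap_assoc, colimit.ι_desc, colimit.ι_desc]
        exact Category.comp_id _
      rwa [h]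
    exact IsIso.of_isIso_comp_right (colim.map κ) (colimit.desc _ d)
  have hP : IsPullback (colim.map (pullback.fst η κ)) (colim.map (pullback.snd η κ))
      (colim.map η) (colim.map κ) := (IsPullback.of_hasPullback η κ).map colim
  have : IsIso (colim.map (pullback.fst η κ)) := hP.isIso_fst_of_isIso
  let d : Cocone ((Functor.const J).obj a) := { pt := a, ι := 𝟙 _ }
  have h0 : colim.map (pullback.fst η κ) ≫ colimit.desc _ d ≫ f = 0 := by
    refine colimit.hom_ext fun S => ?_
    simp only [colim_map, ι_colimMap_assoc, colimit.ι_desc_assoc, comp_zero, d, NatTrans.id_app]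
    erw [Category.id_comp]
    exact hf S _ _ ((Subobject.factors_iff _ _).2
      ⟨F.map ((pullback.snd η κ).app S) ≫ adj.counit.app _,
        transpose adj _ _ _ (congrArg (fun t => t.app S) (pullback.condition (f := η) (g := κ)))⟩)
  replace h0 := (cancel_epi (colim.map (pullback.fst η κ))).1 (h0.trans comp_zero.symm)
  obtain ⟨j⟩ := (IsConnected.is_nonempty : Nonempty J)
  simpa [d] using congrArg (fun t => colimit.ι ((Functor.const J).obj a) j ≫ t) h0

include adj hsep in
theorem isNoetherian_obj [F.Additive] [PreservesFiniteColimits F] (hsN : ∀ i, IsNoetherianObject (s i)) (a : A)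
    [IsNoetherianObject a] : IsNoetherianObject (F.obj a) := by
  classical
  let P : Subobject a → Prop := fun U => ∃ S, (gen s (F.obj a) S).Factors (F.map U.arrow)
  have hP : ∀ (S : Idx s (F.obj a)) (x : A) (u : x ⟶ a),
      (gen s (F.obj a) S).Factors (F.map u) → P (imageSubobject u) := fun S x u hu => by
    refine ⟨S, ?_⟩
    rw [ARLib.mem_iff_comp_cokernel] at hu ⊢
    rw [← imageSubobject_arrow_comp u, F.map_comp, Category.assoc] at hu
    exact (cancel_epi (F.map (factorThruImageSubobject u))).1 (hu.trans comp_zero.symm)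
  have hb : P ⊥ := by
    refine ⟨∅, ?_⟩
    rw [Subobject.bot_arrow, F.map_zero]
    exact Subobject.factors_zero
  obtain ⟨U, hU, hmax⟩ :=
    (inferInstance : WellFoundedGT (Subobject a)).wf.has_min {U | P U} ⟨⊥, hb⟩
  obtain ⟨S₀, hS₀⟩ := hU
  have htop : cokernel.π U.arrow = 0 := by
    refine eq_zero_of_gen adj s hsep _ fun S x u hu => ?_
    let W := imageSubobject (biprod.desc U.arrow u)
    have hW : P W := by
      refine hP (S₀ ∪ S) _ _ ?_
      have h1 := (ARLib.mem_iff_comp_cokernel _ _).1
          (Subobject.factors_of_le _ (gen_mono s _ (Finset.subset_union_left (s₂ := S))) hS₀)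
      have h2 := (ARLib.mem_iff_comp_cokernel _ _).1
          (Subobject.factors_of_le _ (gen_mono s _ (Finset.subset_union_right (s₁ := S₀))) hu)
      rw [ARLib.mem_iff_comp_cokernel, biprod.desc_eq, F.map_add, F.map_comp, F.map_comp,
        Preadditive.add_comp, Category.assoc, Category.assoc, h1, h2]
      simp
    have hUW : U ≤ W :=
      Subobject.le_of_comm (biprod.inl ≫ factorThruImageSubobject _) (by simp [W])
    have : U = W := hUW.eq_of_not_lt (hmax W hW)
    refine (ARLib.mem_iff_comp_cokernel U u).1 (this ▸ (Subobject.factors_iff _ _).2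
      ⟨biprod.inr ≫ factorThruImageSubobject _, by simp [W]⟩)
  have : Epi U.arrow := Abelian.epi_of_cokernel_π_eq_zero _ htop
  have : IsIso U.arrow := isIso_of_mono_of_epi _
  have := isNoetherian_gen s (F.obj a) hsN S₀
  obtain ⟨k, hk⟩ : ∃ k, k ≫ (gen s (F.obj a) S₀).arrow = F.map U.arrow :=
    ⟨_, Subobject.factorThru_arrow _ _ hS₀⟩
  have : Epi (gen s (F.obj a) S₀).arrow := by
    have : Epi (k ≫ (gen s (F.obj a) S₀).arrow) := hk ▸ inferInstance
    exact epi_of_epi k _
  exact ARLib.isNoetherianObject_of_epi (gen s (F.obj a) S₀).arrow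

omit [HasColimitsOfSize.{w, w} A] [AB5OfSize.{w, w} B] [F.Faithful] [PreservesFiniteLimits F]
  [HasColimitsOfSize.{w, w} B] in
theorem factors_image [PreservesFiniteColimits F] {a x : A} {V : Subobject (F.obj a)}
    (u : x ⟶ a) (hu : V.Factors (F.map u)) : V.Factors (F.map (imageSubobject u).arrow) := by
  rw [ARLib.mem_iff_comp_cokernel] at hu ⊢
  rw [← imageSubobject_arrow_comp u, F.map_comp, Category.assoc] at hu
  exact (cancel_epi (F.map (factorThruImageSubobject u))).1 (hu.trans comp_zero.symm)

omit [HasColimitsOfSize.{w, w} A] [AB5OfSize.{w, w} B] [HasColimitsOfSize.{w, w} B] in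
theorem exists_mono_of_factors {a x : A} {V : Subobject (F.obj a)} (u : x ⟶ a) [Mono u]
    (hu : V.Factors (F.map u)) : ∃ k : F.obj x ⟶ (V : B), Mono k := by
  obtain ⟨k, hk⟩ : ∃ k, k ≫ V.arrow = F.map u :=
    ⟨V.factorThru _ hu, Subobject.factorThru_arrow _ _ hu⟩
  exact ⟨k, mono_of_mono_fac hk⟩

include adj hsep in
theorem hasSeparator [PreservesFiniteColimits F] [WellPowered.{w} B] : HasSeparator A := by
  classical
  let T := Σ (n : ℕ) (g : Fin n → ι), Shrink.{w} (Subobject (∐ fun k => s (g k)))
  let c : T → B := fun j => cokernel ((equivShrink.{w} _).symm j.2.2).arrow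
  let W := ∐ c
  have hW : ∀ (X : B) (S : Idx s X), ∃ i : (gen s X S : B) ⟶ W, Mono i := by
    intro X S
    let e := S.equivFin
    let q : (∐ fun k => s (e.symm k).1.1) ⟶ (gen s X S : B) :=
      (Sigma.reindex e.symm (fun p : S => s p.1.1)).hom ≫ factorThruImageSubobject (genMap s X S)
    have hf : Epi (factorThruImageSubobject (genMap s X S)) := by
      unfold factorThruImageSubobject
      infer_instance
    have : Epi q := @epi_comp _ _ _ _ _ _ inferInstance _ hf
    let K := Subobject.mk (kernel.ι q)
    let θ : cokernel K.arrow ≅ (gen s X S : B) :=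
      cokernelIsoOfEq (Subobject.underlyingIso_hom_comp_eq_mk (kernel.ι q)).symm ≪≫
        cokernelEpiComp _ _ ≪≫ (colimit.isColimit _).coconePointUniqueUpToIso
          (Abelian.epiIsCokernelOfKernel _ (kernelIsKernel q))
    let j : T := ⟨S.card, fun k => (e.symm k).1.1, equivShrink.{w} _ K⟩
    let θ' : cokernel K.arrow ≅ c j := eqToIso (congrArg
      (fun K : Subobject _ => cokernel K.arrow) ((equivShrink.{w} _).symm_apply_apply K).symm)
    exact ⟨θ.inv ≫ θ'.hom ≫ Sigma.ι c j, inferInstance⟩
  have := wellPowered (A := A) F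
  let t : Shrink.{w} (Subobject (G.obj W)) → A := fun K => (((equivShrink.{w} _).symm K : Subobject _) : A)
  refine ⟨∐ t, (isSeparator_sigma t).2 fun X Y f g h => sub_eq_zero.1 ?_⟩
  refine eq_zero_of_gen adj s hsep (f - g) fun S x u hu => ?_
  obtain ⟨k, hk⟩ := exists_mono_of_factors (imageSubobject u).arrow (factors_image u hu)
  obtain ⟨i, hi⟩ := hW _ S
  let m := adj.homEquiv _ _ (k ≫ i)
  have : Mono m := ARLib.mono_of_cancel fun Z z hz => F.map_injective <| by
    have := congrArg (adj.homEquiv _ _).symm hz
    rw [Adjunction.homEquiv_naturality_left_symm, Equiv.symm_apply_apply] at this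
    rw [F.map_zero, ← cancel_mono (k ≫ i), zero_comp, this]
    simp [Adjunction.homEquiv_counit]
  let φ : t (equivShrink.{w} _ (Subobject.mk m)) ≅ (imageSubobject u : A) :=
    eqToIso (congrArg (fun K : Subobject (G.obj W) => (K : A))
        ((equivShrink.{w} (Subobject (G.obj W))).symm_apply_apply (Subobject.mk m))) ≪≫
      Subobject.underlyingIso m
  have h0 := h _ ⟨equivShrink.{w} _ (Subobject.mk m)⟩ (φ.hom ≫ (imageSubobject u).arrow)
  rw [← imageSubobject_arrow_comp u, Category.assoc, Preadditive.comp_sub]
  simp only [Category.assoc, cancel_epi] at h0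
  rw [h0, sub_self, comp_zero]

include adj hsep in
theorem isGrothendieckAbelian [PreservesFiniteColimits F] [WellPowered.{w} B] :
    IsGrothendieckAbelian.{w} A :=
  { ab5OfSize := ab5 F adj
    hasSeparator := hasSeparator adj s hsep }

end Adj

end Groth.Agent.FaithAdj
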